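import Groth.Agent.FlatMor.K26.StabDefs
import Mathlib.RingTheory.Valuation.ValuationRing
import Mathlib.FieldTheory.IsSepClosed
import Mathlib.FieldTheory.Perfect
import Mathlib.FieldTheory.Galois.Basic
import Mathlib.FieldTheory.Finite.Basic
import Mathlib.RingTheory.LocalRing.ResidueField.Basic
import Mathlib.RingTheory.IntegralClosure.IntegrallyClosed
import Mathlib.RingTheory.Valuation.Integral
import Mathlib.RingTheory.Bezout
import Mathlib.FieldTheory.IsAlgClosed.Basic

/-!
Value groups of valuation rings with separably closed fraction field (nodes DIV, RESINF, VAL, INERT of the proof of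
S14900).
-/

set_option autoImplicit false
universe u

namespace K442.Vals

open Polynomial K26.Stab

section div

variable {R : Type u} [CommRing R] [IsDomain R] [ValuationRing R] [IsSepClosed (FractionRing R)]

omit [IsSepClosed (FractionRing R)] in
/-- A root of a monic polynomial over a valuation ring in its fraction field lies in the valuation ring. -/
theorem exists_root_of_frac (P : R[X]) (hP : P.Monic) (x : FractionRing R)
    (hx : (P.map (algebraMap R (FractionRing R))).IsRoot x) : ∃ y : R, P.IsRoot y := by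
  have h0 : IsIntegrallyClosed R :=
    Valuation.Integers.isIntegrallyClosed (v := ValuationRing.valuation R (FractionRing R)) (O := R)
      ⟨IsFractionRing.injective R _, fun x => (ValuationRing.mem_integer_iff R _ _).2 ⟨x, rfl⟩,
        fun {r} h => (ValuationRing.mem_integer_iff R _ r).1 h⟩
  have h1 : IsIntegral R x := ⟨P, hP, by rwa [IsRoot.def, eval_map] at hx⟩
  obtain ⟨y, rfl⟩ := IsIntegrallyClosed.isIntegral_iff.1 h1
  refine ⟨y, ?_⟩
  rw [IsRoot.def, eval_map, eval₂_at_apply] at hx
  exact (IsFractionRing.injective R (FractionRing R)) (by rw [hx, map_zero])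

theorem exists_root (P : R[X]) (hP : P.Monic) (hd : P.degree ≠ 0)
    (hs : (P.map (algebraMap R (FractionRing R))).Separable) : ∃ y : R, P.IsRoot y := by
  obtain ⟨x, hx⟩ := IsSepClosed.exists_root (P.map (algebraMap R (FractionRing R)))
    (by rwa [hP.degree_map]) hs
  exact exists_root_of_frac P hP x hx

theorem exists_associated_pow_prime {p : ℕ} (hp : p.Prime) {c : R} (hc : c ≠ 0) : ∃ d : R, Associated c (d ^ p) := by
  classical
  by_cases hu : IsUnit c
  · exact ⟨1, by rw [one_pow]; exact associated_one_iff_isUnit.2 hu⟩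
  set K := FractionRing R
  have hcK : algebraMap R K c ≠ 0 := fun h => hc ((IsFractionRing.injective R K) (by rw [h, map_zero]))
  by_cases hpK : (p : K) = 0
  · -- characteristic `p`
    have hQdeg : (C (c * c) * X - C c : R[X]).degree < ((p : ℕ) : WithBot ℕ) := by
      refine lt_of_le_of_lt (degree_sub_le _ _) (max_lt ?_ ?_)
      · refine lt_of_le_of_lt (degree_C_mul_X_le _) ?_
        exact_mod_cast hp.one_lt
      · refine lt_of_le_of_lt degree_C_le ?_
        exact_mod_cast hp.pos
    have hmon : (X ^ p + (C (c * c) * X - C c) : R[X]).Monic := monic_X_pow_add hQdeg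
    have hdeg : (X ^ p + (C (c * c) * X - C c) : R[X]).degree = (p : ℕ) := by
      rw [degree_add_eq_left_of_degree_lt (by rwa [degree_X_pow]), degree_X_pow]
    obtain ⟨x, hx⟩ := exists_root (X ^ p + (C (c * c) * X - C c) : R[X]) hmon
      (by rw [hdeg]; exact_mod_cast hp.pos.ne') (by
        rw [separable_def]
        have h1 : derivative ((X ^ p + (C (c * c) * X - C c) : R[X]).map (algebraMap R K)) =
            C (algebraMap R K c * algebraMap R K c) := by
          simp only [Polynomial.map_add, Polynomial.map_pow, map_X, Polynomial.map_sub, Polynomial.map_mul, map_C,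
            derivative_add, derivative_sub, derivative_C, derivative_mul, derivative_X, mul_one, zero_mul, zero_add,
            sub_zero, derivative_X_pow, map_mul, mul_zero]
          have : (C (p : K) : K[X]) = 0 := by rw [hpK, map_zero]
          rw [this, zero_mul, zero_add]
        rw [h1]
        obtain ⟨w, hw⟩ := isUnit_C.2 (IsUnit.mk0 _ (mul_ne_zero hcK hcK))
        rw [← hw]
        exact ⟨0, ↑w⁻¹, by rw [zero_mul, zero_add, Units.inv_mul]⟩)
    rw [IsRoot.def] at hx
    simp only [eval_add, eval_pow, eval_X, eval_sub, eval_mul, eval_C] at hx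
    have h2 : x ^ p = c * (1 - c * x) := by linear_combination hx
    have h3 : IsUnit (1 - c * x) := by
      have h4 : c * x ∈ nonunits R := by
        rw [mem_nonunits_iff]
        exact fun h => hu (isUnit_of_mul_isUnit_left h)
      exact IsLocalRing.isUnit_one_sub_self_of_mem_nonunits _ h4
    exact ⟨x, by rw [h2]; exact ⟨h3.unit, rfl⟩⟩
  · have hmon : (X ^ p - C c : R[X]).Monic := monic_X_pow_sub_C c hp.pos.ne'
    obtain ⟨x, hx⟩ := exists_root (X ^ p - C c : R[X]) hmon
      (by rw [degree_X_pow_sub_C hp.pos]; exact_mod_cast hp.pos.ne') (by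
        have h1 : (X ^ p - C c : R[X]).map (algebraMap R K) = X ^ p - C (algebraMap R K c) := by simp
        rw [h1]
        exact separable_X_pow_sub_C _ hpK hcK)
    rw [IsRoot.def] at hx
    simp only [eval_pow, eval_X, eval_sub, eval_C] at hx
    exact ⟨x, by rw [show x ^ p = c by linear_combination hx]⟩

/-- **DIV.** -/
theorem exists_associated_pow {n : ℕ} (hn : n ≠ 0) {c : R} (hc : c ≠ 0) : ∃ d : R, Associated c (d ^ n) := by
  induction n using Nat.strong_induction_on generalizing c with
  | _ n ih =>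
    by_cases h1 : n = 1
    · exact ⟨c, by rw [h1, pow_one]⟩
    · have hp : n.minFac.Prime := Nat.minFac_prime h1
      obtain ⟨m, hm⟩ := n.minFac_dvd
      have hm0 : m ≠ 0 := by
        rintro rfl
        exact hn (by rw [hm, mul_zero])
      have hmn : m < n := by
        have h2 : 0 < m := Nat.pos_of_ne_zero hm0
        calc m = 1 * m := (one_mul m).symm
          _ < n.minFac * m := Nat.mul_lt_mul_of_pos_right hp.one_lt h2
          _ = n := hm.symm
      obtain ⟨d, hd⟩ := exists_associated_pow_prime hp hc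
      have hd0 : d ≠ 0 := by
        rintro rfl
        rw [zero_pow hp.pos.ne'] at hd
        exact hc (associated_zero_iff_eq_zero _ |>.1 hd)
      obtain ⟨e, he⟩ := ih m hmn hm0 hd0
      refine ⟨e, hd.trans ?_⟩
      have h3 : e ^ n = (e ^ m) ^ n.minFac := by
        rw [← pow_mul, mul_comm, ← hm]
      rw [h3]
      exact he.pow_pow

/-- **RESINF.** -/
theorem infinite_residueField (R : Type u) [CommRing R] [IsDomain R] [ValuationRing R]
    [IsSepClosed (FractionRing R)] : Infinite (IsLocalRing.ResidueField R) := by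
  classical
  by_contra hfin
  rw [not_infinite_iff_finite] at hfin
  set κ := IsLocalRing.ResidueField R
  set K := FractionRing R
  have := Fintype.ofFinite κ
  set q := Fintype.card κ with hq
  have hq1 : 1 < q := Fintype.one_lt_card
  have hQdeg : (-(X + 1) : R[X]).degree < ((q : ℕ) : WithBot ℕ) := by
    rw [degree_neg]
    refine lt_of_le_of_lt (degree_add_le _ _) (max_lt ?_ ?_)
    · rw [degree_X]
      exact_mod_cast hq1
    · rw [degree_one]
      exact_mod_cast (by omega : 0 < q)
  have hmon : (X ^ q + -(X + 1) : R[X]).Monic := monic_X_pow_add hQdeg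
  have hdeg : (X ^ q + -(X + 1) : R[X]).degree = (q : ℕ) := by
    rw [degree_add_eq_left_of_degree_lt (by rwa [degree_X_pow]), degree_X_pow]
  have hd0 : (X ^ q + -(X + 1) : R[X]).degree ≠ 0 := by
    rw [hdeg]
    exact_mod_cast (by omega : q ≠ 0)
  obtain ⟨y, hy⟩ : ∃ y : R, (X ^ q + -(X + 1) : R[X]).IsRoot y := by
    obtain ⟨p, hp⟩ := CharP.exists K
    rcases CharP.char_is_prime_or_zero K p with hpp | rfl
    · -- characteristic `p`
      have hpR : (p : R) = 0 := (IsFractionRing.injective R K) (by rw [map_natCast, CharP.cast_eq_zero, map_zero])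
      have : Fact p.Prime := ⟨hpp⟩
      have : CharP κ p := by
        have h1 : ((p : ℕ) : κ) = 0 := by
          rw [← map_natCast (IsLocalRing.residue R), hpR, map_zero]
        obtain ⟨r, hr⟩ := CharP.exists κ
        have h2 := (CharP.cast_eq_zero_iff κ r p).1 h1
        rcases (Nat.dvd_prime hpp).1 h2 with h3 | h3
        · subst h3
          exact absurd rfl (CharP.char_ne_one κ 1)
        · rwa [← h3]
      obtain ⟨n, hn⟩ := FiniteField.card κ p
      have hqK : (q : K) = 0 := by
        rw [hq, hn.2, Nat.cast_pow, CharP.cast_eq_zero, zero_pow n.ne_zero]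
      refine exists_root _ hmon hd0 ?_
      rw [separable_def]
      have h1 : derivative ((X ^ q + -(X + 1) : R[X]).map (algebraMap R K)) = -1 := by
        simp only [Polynomial.map_add, Polynomial.map_pow, map_X, Polynomial.map_neg, Polynomial.map_one,
          derivative_add, derivative_neg, derivative_X, derivative_one, add_zero, derivative_X_pow]
        have : (C (q : K) : K[X]) = 0 := by rw [hqK, map_zero]
        rw [this, zero_mul, zero_add]
      rw [h1]
      exact ⟨0, -1, by ring⟩
    · have : CharZero K := CharP.charP_to_charZero K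
      have : IsAlgClosed K := IsSepClosed.isAlgClosed_of_perfectField K
      obtain ⟨x, hx⟩ := IsAlgClosed.exists_root ((X ^ q + -(X + 1) : R[X]).map (algebraMap R K))
        (by rwa [hmon.degree_map])
      exact exists_root_of_frac _ hmon x hx
  rw [IsRoot.def] at hy
  simp only [eval_add, eval_pow, eval_X, eval_neg, eval_one] at hy
  have h1 := congrArg (IsLocalRing.residue R) hy
  rw [map_add, map_neg, map_add, map_pow, map_one, map_zero, hq, FiniteField.pow_card] at h1
  have h2 : (1 : κ) = 0 := by linear_combination -h1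
  exact one_ne_zero h2

end div

section val

variable {R : Type u} [CommRing R] [IsDomain R] [ValuationRing R] [IsSepClosed (FractionRing R)]
  {N : Type u} [Field N] [Algebra R N] {Γ₀ : Type u} [LinearOrderedCommGroupWithZero Γ₀] {v : Valuation N Γ₀}

/-- Two terms of a vanishing sum have the same value. -/
theorem exists_eq_of_sum_eq_zero {ι : Type*} (s : Finset ι) (f : ι → N) (h0 : ∑ i ∈ s, f i = 0)
    (hne : ∃ i ∈ s, f i ≠ 0) : ∃ i ∈ s, ∃ j ∈ s, i ≠ j ∧ f i ≠ 0 ∧ v (f i) = v (f j) := by
  classical
  obtain ⟨i₀, hi₀, hi₀'⟩ := hne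
  obtain ⟨i, hi, hmax⟩ := s.exists_max_image (fun i => v (f i)) ⟨i₀, hi₀⟩
  have hvi : 0 < v (f i) := lt_of_lt_of_le ((Valuation.pos_iff v).2 hi₀') (hmax i₀ hi₀)
  have hfi : f i ≠ 0 := (Valuation.pos_iff v).1 hvi
  by_contra hcon
  push Not at hcon
  have h1 : ∀ j ∈ s.erase i, v (f j) < v (f i) := by
    intro j hj
    rw [Finset.mem_erase] at hj
    exact lt_of_le_of_ne (hmax j hj.2) (fun h => hcon i hi j hj.2 (Ne.symm hj.1) hfi h.symm)
  have h2 : v (∑ j ∈ s.erase i, f j) < v (f i) := Valuation.map_sum_lt v hvi.ne' h1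
  have h3 : f i + ∑ j ∈ s.erase i, f j = 0 := by rw [Finset.add_sum_erase s f hi, h0]
  have h4 : v (f i) = v (∑ j ∈ s.erase i, f j) := by
    rw [eq_neg_of_add_eq_zero_left h3, Valuation.map_neg]
  exact absurd h4 h2.ne'

/-- **VAL.** -/
theorem val_of_algebraic (hB : Base₀ R v) (E : Type u) [Field E] [Algebra E N] [Algebra.IsAlgebraic E N]
    (hE : ∀ y : E, v (algebraMap E N y) ≤ 1 → ∃ r : R, v (algebraMap R N r) = v (algebraMap E N y)) : Base R v := by
  classical
  refine { hB with val := fun x hx => ?_ }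
  by_cases hx0 : x = 0
  · exact ⟨0, by rw [hx0, map_zero]⟩
  have hxv : v x ≠ 0 := (Valuation.ne_zero_iff v).2 hx0
  obtain ⟨P, hP0, hP⟩ := Algebra.IsAlgebraic.isAlgebraic (R := E) x
  rw [aeval_eq_sum_range] at hP
  have hterm : ∃ i ∈ Finset.range (P.natDegree + 1), P.coeff i • x ^ i ≠ 0 := by
    refine ⟨P.natDegree, Finset.self_mem_range_succ _, ?_⟩
    rw [Algebra.smul_def]
    exact mul_ne_zero ((_root_.map_ne_zero _).2 (leadingCoeff_ne_zero.2 hP0)) (pow_ne_zero _ hx0)
  obtain ⟨i, hi, j, hj, hij, hfi, hv⟩ := exists_eq_of_sum_eq_zero (v := v) _ _ hP hterm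
  -- the symmetric argument
  have key : ∀ i j : ℕ, i < j → P.coeff i • x ^ i ≠ 0 → P.coeff j • x ^ j ≠ 0 →
      v (P.coeff i • x ^ i) = v (P.coeff j • x ^ j) → ∃ r : R, v (algebraMap R N r) = v x := by
    intro i j hij hi hj hv
    rw [Algebra.smul_def] at hi hj hv
    rw [Algebra.smul_def] at hv
    have hci : algebraMap E N (P.coeff i) ≠ 0 := left_ne_zero_of_mul hi
    have hcj : algebraMap E N (P.coeff j) ≠ 0 := left_ne_zero_of_mul hj
    have hvi : v (algebraMap E N (P.coeff i)) ≠ 0 := (Valuation.ne_zero_iff v).2 hci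
    have hvj : v (algebraMap E N (P.coeff j)) ≠ 0 := (Valuation.ne_zero_iff v).2 hcj
    obtain ⟨m, rfl⟩ := Nat.exists_eq_add_of_lt hij
    have h1 : v (algebraMap E N (P.coeff i / P.coeff (i + m + 1))) = v x ^ (m + 1) := by
      rw [map_div₀, map_div₀, div_eq_iff hvj]
      rw [map_mul, map_mul, map_pow, map_pow, add_assoc, pow_add] at hv
      have h2 : v x ^ i ≠ 0 := pow_ne_zero _ hxv
      have h3 : v (algebraMap E N (P.coeff i)) * v x ^ i =
          (v x ^ (m + 1) * v (algebraMap E N (P.coeff (i + (m + 1))))) * v x ^ i := by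
        rw [hv, mul_comm (v x ^ i), ← mul_assoc]
        congr 1
        rw [mul_comm]
      exact mul_right_cancel₀ h2 h3
    obtain ⟨r, hr⟩ := hE (P.coeff i / P.coeff (i + m + 1)) (by
      rw [h1]
      exact pow_le_one₀ zero_le hx)
    rw [h1] at hr
    have hr0 : r ≠ 0 := by
      rintro rfl
      rw [map_zero, map_zero] at hr
      exact pow_ne_zero (m + 1) hxv hr.symm
    obtain ⟨d, u, hu⟩ := exists_associated_pow (R := R) (n := m + 1) (by omega) hr0
    refine ⟨d, ?_⟩
    have h4 : v (algebraMap R N d) ^ (m + 1) = v x ^ (m + 1) := by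
      rw [← hr, ← map_pow, ← map_pow, ← hu, map_mul, map_mul, hB.unit u.isUnit, mul_one]
    exact (pow_left_inj₀ zero_le zero_le (by omega : m + 1 ≠ 0)).1 h4
  have hfj : P.coeff j • x ^ j ≠ 0 := by
    rw [← Valuation.ne_zero_iff v, ← hv, Valuation.ne_zero_iff]
    exact hfi
  rcases lt_or_gt_of_ne hij with h | h
  · exact key i j h hfi hfj hv
  · exact key j i h hfj hfi hv.symm

variable {E : Type u} [Field E] [Algebra E N]

/-- **INERT.** -/
theorem not_isUnit_of_inertia [Algebra R E] [IsScalarTower R E N] (hB : Base R v) {σ : N ≃ₐ[E] N}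
    (hσ : ∀ x, v x ≤ 1 → v (σ x - x) < 1) {l : ℕ} (hl : l.Prime) (hord : orderOf σ = l) : ¬ IsUnit (l : R) := by
  classical
  -- an element moved by `σ`
  obtain ⟨y, hy⟩ : ∃ y, σ y ≠ y := by
    by_contra hcon
    push Not at hcon
    have h1 : σ = 1 := AlgEquiv.ext hcon
    rw [h1, orderOf_one] at hord
    exact hl.ne_one hord.symm
  have hfix : ∀ r : R, σ (algebraMap R N r) = algebraMap R N r := by
    intro r
    rw [IsScalarTower.algebraMap_apply R E N, AlgEquiv.commutes]
  -- the sum over the orbit
  have hsum : ∀ n : ℕ, ∑ i ∈ Finset.range n, (σ ^ i) (y - σ y) = y - (σ ^ n) y := by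
    intro n
    induction n with
    | zero => simp
    | succ n ih =>
      rw [Finset.sum_range_succ, ih, map_sub, pow_succ, AlgEquiv.mul_apply]
      ring
  have hzero : ∑ i ∈ Finset.range l, (σ ^ i) (y - σ y) = 0 := by
    rw [hsum l, ← hord, pow_orderOf_eq_one, AlgEquiv.one_apply, sub_self]
  have hpow : ∀ (i : ℕ) (c z : N), σ c = c → (σ ^ i) (c * z) = c * (σ ^ i) z := by
    intro i c z hc
    have h1 : (σ ^ i) c = c := by
      induction i with
      | zero => simp
      | succ i ih => rw [pow_succ, AlgEquiv.mul_apply, hc, ih]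
    rw [map_mul, h1]
  -- scale it to value `1`
  obtain ⟨c, hc, hvc⟩ : ∃ c : N, σ c = c ∧ v (c * (y - σ y)) = 1 := by
    have hx0 : y - σ y ≠ 0 := sub_ne_zero.2 (Ne.symm hy)
    have hv0 : v (y - σ y) ≠ 0 := (Valuation.ne_zero_iff v).2 hx0
    rcases le_total (v (y - σ y)) 1 with h | h
    · obtain ⟨r, hr⟩ := hB.val _ h
      refine ⟨(algebraMap R N r)⁻¹, by rw [map_inv₀, hfix], ?_⟩
      rw [map_mul, map_inv₀, hr, inv_mul_cancel₀ hv0]
    · have h2 : v (y - σ y)⁻¹ ≤ 1 := by
        rw [map_inv₀]
        exact inv_le_one_of_one_le₀ h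
      obtain ⟨r, hr⟩ := hB.val _ h2
      refine ⟨algebraMap R N r, hfix r, ?_⟩
      rw [map_mul, hr, map_inv₀, inv_mul_cancel₀ hv0]
  set x := c * (y - σ y) with hx
  have hzero' : ∑ i ∈ Finset.range l, (σ ^ i) x = 0 := by
    rw [Finset.sum_congr rfl (fun i _ => hpow i c (y - σ y) hc), ← Finset.mul_sum, hzero, mul_zero]
  have hnear : ∀ i : ℕ, v ((σ ^ i) x - x) < 1 := by
    intro i
    induction i with
    | zero => rw [pow_zero, AlgEquiv.one_apply, sub_self, map_zero]; exact zero_lt_one
    | succ i ih =>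
      have h1 : v ((σ ^ i) x) ≤ 1 := by
        have h2 : (σ ^ i) x = ((σ ^ i) x - x) + x := by ring
        rw [h2]
        exact Valuation.map_add_le v ih.le hvc.le
      have h3 : (σ ^ (i + 1)) x - x = (σ ((σ ^ i) x) - (σ ^ i) x) + ((σ ^ i) x - x) := by
        rw [pow_succ', AlgEquiv.mul_apply]
        ring
      rw [h3]
      exact Valuation.map_add_lt v (hσ _ h1) ih
  have hl0 : v ((l : N) * x) < 1 := by
    have h1 : (l : N) * x = -∑ i ∈ Finset.range l, ((σ ^ i) x - x) := by
      rw [Finset.sum_sub_distrib, hzero', Finset.sum_const, Finset.card_range, nsmul_eq_mul]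
      ring
    rw [h1, Valuation.map_neg]
    exact Valuation.map_sum_lt v one_ne_zero (fun i _ => hnear i)
  rw [map_mul, hvc, mul_one] at hl0
  intro hu
  have h1 := hB.toBase₀.unit hu
  rw [map_natCast] at h1
  exact absurd h1 hl0.ne

end val

end K442.Vals
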